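import Cfsg.Agent.GHD.Defs
import Cfsg.Agent.Gate.S2919
import Cfsg.Agent.Phan.Blk
import Cfsg.Agent.S0281

/-!
# Sylow 2-subgroups of type `D₈ ≀ 2`
-/

set_option autoImplicit false

namespace Cfsg.Lib.GHD

open Subgroup Cfsg.Lib.Trans Cfsg.Lib.Gold

universe u

namespace T00

open Cfsg.Lib.Known Cfsg.Lib.Known.GTab Matrix

/-- Table. -/
def ac8 : ℕ := 0x203010004050607030200010504070602030100050407060302000104050607030201000405070602030001050406070302010005040607020300010405070601000203070605040001030206070405010002030607040500010302070605040100030206070504000102030706040501000302070604050001020306070504070604050100030206070504000102030607050401000302070604050001020306070405010002030706050400010302070605040100020306070405000103020405070602030001050406070302010005040607020300010405070603020100040506070302000105040706020301000504070603020001040506070203010001000203040506070001030205040706010002030504070600010302040506070100030204050706000102030504060701000302050406070001020304050706020301000706050403020001060704050203010006070405030200010706050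4030201000607050402030001070604050302010007060405020300010607050404050706010003020504060700010203050406070100030204050706000102030405060701000203050407060001030205040706010002030405060700010302070604050203000106070504030201000607050402030001070604050302010006070405030200010706050402030100070605040302000106070405020301000302000105040607020301000405070603020001040507060203010005040607020300010504070603020100040506070203000104050607030201000504070600010302060705040100020307060405000103020706040501000203060705040001020307060504010003020607040500010203060704050100030207060504060705040001030207060405010002030706040500010302060705040100020307060504000102030607040501000302060704050001020307060504010003020504060703020001040507060203010004050706030200010504060702030100050407060203000104050607030201000405060702030001050407060302010000010302050406070100020304050706000103020405070601000203050406070001020305040706010003020405060700010203040506070100030205040706030200010607050402030100070604050302000107060405020301000607050402030001070605040302010006070405020300010607040503020100070605040504060700010302040507060100020304050706000103020504060701000203050407060001020304050607010003020405060700010203050407060100030206070504030200010706040502030100070604050302000106070504020301000706050402030001060704050302010006070405020300010706050403020100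

/-- Table. -/
def ke8 : ℕ := 0x7233490800005f1e00000e4f470619583273000001401c5d7637000005445a1b713000004302000035746c2d00001a5b0000296803425c1d00002e6f4504591800006b2a41001f5e561700000746000011502b6a0000000015546e2f000000005213692800007c3d00002c6d000039781253000000003f7e5514000000007a3b51100000652400001657000021603a7b0000000027667f3e000000006322793800004e0f00003c7d000009482362000000000c4d6726000000004b0a61200000753400002564000031700b4a0000000036774c0d0000

theorem chk8 : (tabT false false).chkAct 8 (mkA 8 ac8) (mkK ke8 216) = true := by decide +kernel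

theorem q8_cent : ∀ x y : T false false, x * x = y * y → x * y * (x * y) = x * x → x * x ≠ 1 →
    x * x = T.z := by
  decide +kernel

theorem exists_perm : ∃ f : T false false →* Equiv.Perm (Fin 8), Function.Injective f :=
  letI := actOf chk8
  haveI := faithful_actOf chk8
  ⟨MulAction.toPermHom _ _, MulAction.toPerm_injective⟩

theorem sylow_perm (P : Sylow 2 (Equiv.Perm (Fin 8))) : Nonempty (T false false ≃* P) := by
  have : Fact (Nat.Prime 2) := ⟨Nat.prime_two⟩
  obtain ⟨f, hf⟩ := exists_perm
  have h1 : Nat.card f.range = 128 := by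
    rw [← Nat.card_congr (MonoidHom.ofInjective hf).toEquiv, card_T]
  have h2 : IsSylowIn 2 f.range ⊤ := ⟨le_top, IsPGroup.of_card (n := 7) h1, by
    have := f.range.card_mul_index
    rw [h1, Nat.card_eq_fintype_card, Fintype.card_perm, Fintype.card_fin] at this
    rw [relIndex_top_right, show f.range.index = 315 by
      have e : Nat.factorial 8 = 40320 := by decide
      omega]
    decide⟩
  obtain ⟨Q, hQ⟩ := h2.exists_sylow_eq
  exact ⟨(MonoidHom.ofInjective hf).trans ((MulEquiv.subgroupCongr hQ.symm).trans (Q.equiv P))⟩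

variable {G : Type*} [Group G] [Finite G]

theorem q8 (e : Em (T false false) G) {x y : G} (h1 : x * x = y * y)
    (h2 : x * y * (x * y) = x * x) (h4 : x * x * (x * x) = 1) (h0 : x * x ≠ 1) :
    IsConj (e.φ T.z) (x * x) := by
  have : Fact (Nat.Prime 2) := ⟨Nat.prime_two⟩
  have hx : IsPGroup 2 (zpowers x) := Solv.PG.isPGroup_zpowers (k := 2) (by
    rw [show 2 ^ 2 = 2 + 2 by rfl, pow_add, pow_two, h4])
  have hy : IsPGroup 2 (zpowers y) := Solv.PG.isPGroup_zpowers (k := 2) (by
    rw [show 2 ^ 2 = 2 + 2 by rfl, pow_add, pow_two, ← h1, h4])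
  have hc : y * x * y⁻¹ = x⁻¹ := by
    calc _ = x⁻¹ * (x * y * (x * y)) * (y * y)⁻¹ := by group
      _ = _ := by rw [h2, h1, mul_inv_cancel_right]
  have hn : zpowers y ≤ normalizer (zpowers x : Set G) := zpowers_le.2 (mem_normalizer_fintype (by
    rintro _ ⟨k, rfl⟩
    rw [← conj_zpow, hc]
    exact zpow_mem (inv_mem (mem_zpowers x)) k))
  obtain ⟨g, -, hg⟩ := e.syl.exists_cj_le (hy.to_sup_of_normal_right' hx hn) le_top
  obtain ⟨a, ha⟩ := cj_le_iff.1 hg x (mem_sup_right (mem_zpowers x))
  obtain ⟨b, hb⟩ := cj_le_iff.1 hg y (mem_sup_left (mem_zpowers y))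
  have e1 : e.φ (a * a) = g * (x * x) * g⁻¹ := by rw [map_mul, ha, conj_mul]
  rw [← q8_cent a b (e.inj (by rw [e1, map_mul, hb, conj_mul, h1]))
    (e.inj (by rw [e1, map_mul, map_mul, ha, hb, conj_mul, conj_mul, h2]))
    (fun k => h0 (by rwa [k, map_one, eq_comm, conj_eq_one_iff] at e1)), e1]
  exact (isConj_iff.2 ⟨g, rfl⟩).symm

theorem no_sl2 (h : Hyp G) (e : Em (T false false) G) {K : Type*} [Field K] [Fintype K]
    (h2 : Fintype.card K % 2 = 1) (h4 : 4 ≤ Fintype.card K) (j : SpecialLinearGroup (Fin 2) K →* G)
    (hj : ∀ A, j A = 1 → A = 1) : False := by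
  have hp := ringChar.charP K
  have : NeZero (ringChar K) := ⟨CharP.ringChar_ne_zero_of_finite K⟩
  have h0 : (2 : K) ≠ 0 := Ring.two_ne_zero fun k => by
    have := FiniteField.even_card_of_char_two k
    omega
  obtain ⟨a, b, hab⟩ := CharP.sq_add_sq K (ringChar K) (-1)
  generalize (a : K) = a at hab
  generalize (b : K) = b at hab
  rw [Int.cast_neg, Int.cast_one] at hab
  let x : SpecialLinearGroup (Fin 2) K := ⟨!![0, 1; -1, 0], by simp [det_fin_two]⟩
  let y : SpecialLinearGroup (Fin 2) K := ⟨!![a, b; b, -a], by
    simp only [det_fin_two_of]; linear_combination -hab⟩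
  have key : ∀ (A : SpecialLinearGroup (Fin 2) K) (u v w : K), A.1 = !![u, v; w, -u] →
      A * A = -1 := fun A u v w hA => Subtype.ext (by
    have hd := A.2
    rw [hA, det_fin_two_of] at hd
    change A.1 * A.1 = -1
    rw [hA, mul_fin_two, one_fin_two]
    ext i k
    fin_cases i <;> fin_cases k <;> simp
    · linear_combination -hd
    · ring
    · ring
    · linear_combination -hd)
  have hx : x * x = -1 := key x 0 1 (-1) (by simp [x])
  have hy : y * y = -1 := key y a b b rfl
  have hxy : x * y * (x * y) = -1 := key _ b (-a) (-a) (by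
    change !![0, 1; -1, 0] * !![a, b; b, -a] = _
    simp)
  have n1 : j (-1) ≠ 1 := fun k => h0 (by
    have := congrArg (fun A : SpecialLinearGroup (Fin 2) K => A.1 0 0) (hj _ k)
    simp at this
    linear_combination -this)
  have ex : j x * j x = j (-1) := by rw [← map_mul, hx]
  have hc := q8 e (x := j x) (y := j y) (by rw [ex, ← map_mul, hy])
    (by rw [ex, ← map_mul, ← map_mul, hxy]) (by rw [ex, ← map_mul]; simp) (ex ▸ n1)
  have hs := solv_conj (e.solv h T.z_comm (by decide) (by decide)) (ex ▸ hc)
  let f : SpecialLinearGroup (Fin 2) K →* C1 (j (-1)) := j.codRestrict _ fun A =>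
    mem_centralizer_singleton_iff.2 (by rw [← map_mul, ← map_mul]; simp)
  have hs' : Group.IsSolvable (SpecialLinearGroup (Fin 2) K) :=
    Group.isSolvable_of_isSolvable_injective (f := f) ((injective_iff_map_eq_one f).2 fun A k =>
      hj A (congrArg Subtype.val k))
  obtain ⟨g, hg⟩ : IsCyclic Kˣ := inferInstance
  have hg2 : (g : K) ^ 2 ≠ 1 := fun k => by
    have h5 := orderOf_le_of_pow_eq_one zero_lt_two (show g ^ 2 = 1 from Units.ext (by simpa using k))
    rw [orderOf_eq_card_of_forall_mem_zpowers hg, Nat.card_units, Nat.card_eq_fintype_card] at h5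
    omega
  have : Nontrivial (SpecialLinearGroup (Fin 2) K) := ⟨-1, 1, fun k => n1 (by rw [k, map_one])⟩
  have := Group.IsSolvable.commutator_lt_top_of_nontrivial (SpecialLinearGroup (Fin 2) K)
  rw [SL2.commutator_eq_top g.ne_zero hg2] at this
  exact lt_irrefl _ this

theorem eq_one_of_scalar {F : Type*} [Field F] {A : Matrix (Fin 2) (Fin 2) F} {a : F}
    (h : Phan.embMat (Phan.sh 2 4 0 (by omega)) A = a • (1 : Matrix (Fin 4) (Fin 4) F)) :
    A = 1 := by
  have h1 := congrFun (congrFun h 2) 2
  rw [Phan.embMat_out_left _ _ (by rw [Phan.mem_range_sh]; decide)] at h1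
  obtain rfl : a = 1 := by simpa using h1.symm
  ext i k
  rw [← Phan.embMat_in (Phan.sh 2 4 0 (by omega)) A i k, h, one_smul, one_apply, one_apply]
  simp

theorem exists_psl (F : Type*) [Field F] :
    ∃ j : SpecialLinearGroup (Fin 2) F →* ProjectiveSpecialLinearGroup (Fin 4) F,
      ∀ A, j A = 1 → A = 1 := by
  let f : SpecialLinearGroup (Fin 2) F →* SpecialLinearGroup (Fin 4) F :=
    MonoidHom.mk' (fun A => ⟨Phan.embMat (Phan.sh 2 4 0 (by omega)) A.1, by
      rw [Phan.det_embMat, A.2]⟩) fun A B => Subtype.ext (by
        change Phan.embMat _ (A.1 * B.1) = Phan.embMat _ A.1 * Phan.embMat _ B.1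
        simp [Phan.embMat, submatrix_mul_equiv, fromBlocks_multiply])
  refine ⟨(QuotientGroup.mk' _).comp f, fun A hA => ?_⟩
  obtain ⟨a, -, ha⟩ := Matrix.SpecialLinearGroup.mem_center_iff.1
    ((QuotientGroup.eq_one_iff (f A)).1 hA)
  exact Subtype.ext (eq_one_of_scalar (a := a) (ha.symm.trans (by simp [smul_one_eq_diagonal])))

theorem exists_psu {F : Type*} [Field F] [Fintype F] {q : ℕ} (hF : Fintype.card F = q ^ 2) :
    ∃ (K : Type) (_ : Field K) (_ : Fintype K), Fintype.card K = q ∧
      ∃ j : SpecialLinearGroup (Fin 2) K →* PSU 4 F q, ∀ A, j A = 1 → A = 1 := by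
  obtain ⟨K, _, _, hK⟩ : ∃ (K : Type) (_ : Field K) (_ : Fintype K), Fintype.card K = q := by
    obtain ⟨p, _, n, hp, hn⟩ := FiniteField.card' F
    obtain ⟨k, -, rfl⟩ := (Nat.dvd_prime_pow hp).1 (hn ▸ hF ▸ dvd_pow_self q two_ne_zero)
    have hk : k ≠ 0 := by
      rintro rfl
      have := Fintype.one_lt_card (α := F)
      simp [hF] at this
    have : Fact p.Prime := ⟨hp⟩
    let _ : Fintype (GaloisField p k) := Fintype.ofFinite _
    exact ⟨GaloisField p k, inferInstance, inferInstance, by
      rw [← Nat.card_eq_fintype_card, GaloisField.card p k hk]⟩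
  obtain ⟨ε⟩ := Cfsg.Agent.S0281.result hF hK
  refine ⟨K, _, _, hK, (QuotientGroup.mk' _).comp ((Phan.emb (Phan.sh 2 4 0 (by omega))).comp
    ε.symm.toMonoidHom), fun A hA => ?_⟩
  obtain ⟨a, ha⟩ := (Class.Form.mem_center_SU_iff hF 4 (by omega) _).1
    ((QuotientGroup.eq_one_iff _).1 hA)
  exact (map_eq_one_iff _ ε.symm.injective).1 (Phan.mat_ext (eq_one_of_scalar
    ((Phan.mat_emb _ _).symm.trans ha)))

end T00

variable {G : Type u} [Group G] [Finite G]

theorem Hyp.t00 [Cfsg.Agent.Gate.S2919.{u}] (h : Hyp G) (e : Em (T false false) G) : Concl G := by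
  have : Fact (Nat.Prime 2) := ⟨Nat.prime_two⟩
  have := h.simple
  obtain ⟨S, hS⟩ := e.syl.exists_sylow_eq
  have hz : orderOf (e.φ T.z) = 2 := e.ord (by decide) (by decide)
  have hO : oddCore G = ⊥ := Local.oddCore_eq_bot_of_isSimpleGroup hz
  have : (oddCore G).Normal := hO ▸ inferInstance
  obtain ⟨N, hN, hi, H⟩ := Cfsg.Agent.Gate.S2919.out (pResidual_two_eq_top_iff.2 h.noidx) S
    fun P => (T00.sylow_perm P).map fun f =>
      (MulEquiv.subgroupCongr hS).trans ((MonoidHom.ofInjective e.inj).symm.trans f)
  let π : (G ⧸ oddCore G) ≃* G :=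
    (QuotientGroup.quotientMulEquivOfEq hO).trans QuotientGroup.quotientBot
  have := π.isSimpleGroup
  obtain rfl : N = ⊤ := hN.eq_bot_or_eq_top.resolve_left (by
    rintro rfl
    rw [index_bot, Nat.card_congr π.toEquiv] at hi
    exact (Nat.not_even_iff_odd.2 hi) (even_iff_two_dvd.2 (hz ▸ orderOf_dvd_natCard _)))
  let ρ : G ≃* (⊤ : Subgroup (G ⧸ oddCore G)) := π.symm.trans topEquiv.symm
  rcases H with ⟨⟨f⟩⟩ | ⟨⟨f⟩⟩ | ⟨F, _, _, q, hF, hq, ⟨f⟩⟩ | ⟨F, _, _, q, hF, hq, ⟨f⟩⟩
  · exact .inr (.inr (.inr (.inl ⟨10, by omega, by omega, ⟨ρ.trans f⟩⟩)))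
  · exact .inr (.inr (.inr (.inl ⟨11, by omega, by omega, ⟨ρ.trans f⟩⟩)))
  · by_cases h3 : q = 3
    · exact .inl ⟨F, _, _, hF.trans h3, .inl ⟨ρ.trans f⟩⟩
    · obtain ⟨j, hj⟩ := T00.exists_psl F
      exact (T00.no_sl2 h e (K := F) (by omega) (by omega)
        ((ρ.trans f).symm.toMonoidHom.comp j) fun A k =>
          hj A ((map_eq_one_iff _ (ρ.trans f).symm.injective).1 k)).elim
  · obtain ⟨K, _, _, hK, j, hj⟩ := T00.exists_psu hF
    have := Fintype.one_lt_card (α := K)
    exact (T00.no_sl2 h e (K := K) (by omega) (by omega)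
      ((ρ.trans f).symm.toMonoidHom.comp j) fun A k =>
        hj A ((map_eq_one_iff _ (ρ.trans f).symm.injective).1 k)).elim

theorem T00.ac8_eq_1' : type_of% @T00.ac8.eq_1 := @T00.ac8.eq_1
theorem T00.ke8_eq_1' : type_of% @T00.ke8.eq_1 := @T00.ke8.eq_1

end Cfsg.Lib.GHD
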