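import Cfsg.Agent.GHD.Tab
import Cfsg.Agent.GHB.Basic
import Cfsg.Agent.Gold.Defs
import Cfsg.Agent.Solv.PGroupNormal

/-!
# The models `D`, `W`, `E k`, `T al ga`: elements, the action of `W`, homomorphisms into a group
-/

set_option autoImplicit false

namespace Cfsg.Lib.GHD

open Subgroup Cfsg.Lib.Known Cfsg.Lib.Known.GTab Cfsg.Lib.Trans Cfsg.Lib.Gold

/-- The extraspecial group `2^{1+4}_+`. -/
abbrev D : Type := tabD.El
/-- Its outer automorphism group `S₃ ≀ 2`. -/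
abbrev W : Type := tabW.El
/-- `D` extended by an involution. -/
abbrev E (k : Bool) : Type := (tabE k).El
/-- `D` extended by a four-group. -/
abbrev T (al ga : Bool) : Type := (tabT al ga).El

/-- The central involution. -/
def z : D := ⟨1, by decide⟩
/-- Generator. -/
def a0 : D := ⟨2, by decide⟩
/-- Generator. -/
def a1 : D := ⟨4, by decide⟩
/-- Generator. -/
def b0 : D := ⟨8, by decide⟩
/-- Generator. -/
def b1 : D := ⟨16, by decide⟩

/-- `a₀ ↦ a₁ ↦ a₀a₁`, `b₀ ↦ b₁ ↦ b₀b₁`. -/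
def wa : W := ⟨1, by decide⟩
/-- `a₀ ↦ b₀ ↦ z a₀b₀`, `a₁ ↦ b₁ ↦ z a₁b₁`. -/
def wb : W := ⟨3, by decide⟩
/-- `a₀, a₀a₁, b₀, b₀b₁`. -/
def ws : W := ⟨9, by decide⟩
/-- `a₀, a₁, z a₀b₀, z a₁b₁`. -/
def wt : W := ⟨18, by decide⟩
/-- `ws * wt`. -/
def wo : W := ⟨27, by decide⟩
/-- The reflection `z a₀, z b₀, z a₁, z b₁`. -/
def wr : W := ⟨36, by decide⟩
/-- The reflection `z a₀, a₀b₀, z a₀a₁, a₀a₁b₀b₁`. -/
def wr' : W := ⟨45, by decide⟩

/-- The action of `W` on `D`. -/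
def act (w : W) (x : D) : D := ⟨mkA 32 acW w.1 x.1, (chkAct_spec chkW).2.1 _ w.2 _ x.2⟩

theorem act_mul (w v : W) (x : D) : act (w * v) x = act w (act v x) :=
  El.ext ((chkAct_spec chkW).2.2.1 _ w.2 _ v.2 _ x.2)

theorem act_one (x : D) : act 1 x = x := El.ext ((chkAct_spec chkW).2.2.2.2 _ x.2)

theorem act_hom : ∀ (w : W) (x y : D), act w (x * y) = act w x * act w y := by decide +kernel

theorem act_z : ∀ w : W, act w z = z := by decide +kernel

/-- The automorphism of `D` given by `w`. -/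
def actH (w : W) : D →* D := MonoidHom.mk' (act w) (act_hom w)

theorem actH_apply (w : W) (x : D) : actH w x = act w x := rfl

theorem act_inv_act (w : W) (x : D) : act w⁻¹ (act w x) = x := by
  rw [← act_mul, inv_mul_cancel, act_one]

theorem act_act_inv (w : W) (x : D) : act w (act w⁻¹ x) = x := by
  rw [← act_mul, mul_inv_cancel, act_one]

theorem z_comm : ∀ x : D, x * z = z * x := by decide +kernel
theorem cent_D : ∀ x : D, (∀ y, x * y = y * x) → x = 1 ∨ x = z := by decide +kernel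
theorem sq_D : ∀ x : D, x * x = 1 ∨ x * x = z := by decide +kernel
theorem comm_D : ∀ x y : D, x * y = y * x ∨ x * y = z * (y * x) := by decide +kernel
theorem card_D : Nat.card D = 32 := card_El
theorem card_W : Nat.card W = 72 := card_El
theorem card_E (k : Bool) : Nat.card (E k) = 64 := card_El
theorem card_T (al ga : Bool) : Nat.card (T al ga) = 128 := card_El
theorem two_D : IsPGroup 2 D := IsPGroup.of_card (n := 5) card_D
theorem two_E (k : Bool) : IsPGroup 2 (E k) := IsPGroup.of_card (n := 6) (card_E k)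
theorem two_T (al ga : Bool) : IsPGroup 2 (T al ga) := IsPGroup.of_card (n := 7) (card_T al ga)

/-- The row `⟨z, a₀, a₁⟩`. -/
def V0 : Subgroup D := tabD.msub 0xff (by decide) (by decide +kernel)

instance : DecidablePred (· ∈ V0) := fun _ => decidable_of_iff' _ mem_msub

/-- `z ^ b`. -/
def zp (b : Bool) : D := cond b z 1

/-- The action of the generator of `E k`. -/
def wE (k : Bool) : W := cond k wo wt

namespace E
variable {k : Bool}
/-- The inclusion. -/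
def ι : D →* E k := MonoidHom.mk' (fun x => ⟨x.1, lt_trans x.2 (show 32 < 64 by decide)⟩)
  (by cases k <;> decide +kernel)
/-- The central involution. -/
def z : E k := ⟨1, show 1 < 64 by decide⟩
/-- The involution outside `D`. -/
def t : E k := ⟨32, show 32 < 64 by decide⟩
end E

namespace T
variable {al ga : Bool}
/-- The inclusion. -/
def ι : D →* T al ga := MonoidHom.mk' (fun x => ⟨x.1, lt_trans x.2 (show 32 < 128 by decide)⟩)
  (by cases al <;> cases ga <;> decide +kernel)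
/-- The central involution. -/
def z : T al ga := ⟨1, show 1 < 128 by decide⟩
/-- Generator. -/
def a0 : T al ga := ⟨2, show 2 < 128 by decide⟩
/-- Generator. -/
def a1 : T al ga := ⟨4, show 4 < 128 by decide⟩
/-- Generator. -/
def b0 : T al ga := ⟨8, show 8 < 128 by decide⟩
/-- Generator. -/
def b1 : T al ga := ⟨16, show 16 < 128 by decide⟩
/-- Generator acting as `ws`. -/
def s : T al ga := ⟨32, show 32 < 128 by decide⟩
/-- Generator acting as `wt`. -/
def t : T al ga := ⟨64, show 64 < 128 by decide⟩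
/-- The subgroup `D`. -/
def DD : Subgroup (T al ga) := (tabT al ga).msub 0xffffffff (by decide)
  (by cases al <;> cases ga <;> decide +kernel)
/-- The elementary abelian subgroup `⟨z, a₀, a₁, t⟩` of order 16. -/
def Q : Subgroup (T al ga) := (tabT al ga).msub 0xff00000000000000ff (by decide)
  (by cases al <;> cases ga <;> decide +kernel)

instance : DecidablePred (· ∈ (DD : Subgroup (T al ga))) := fun _ => decidable_of_iff' _ mem_msub
instance : DecidablePred (· ∈ (Q : Subgroup (T al ga))) := fun _ => decidable_of_iff' _ mem_msub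

theorem z_comm : ∀ x : T al ga, x * z = z * x := by cases al <;> cases ga <;> decide +kernel
theorem cent : ∀ x : T al ga, (∀ y, x * y = y * x) → x = 1 ∨ x = z := by
  cases al <;> cases ga <;> decide +kernel
theorem mem_DD : ∀ x : T al ga, x ∈ DD ↔ ∃ y, ι y = x := by
  cases al <;> cases ga <;> decide +kernel
theorem card_DD : Nat.card (DD : Subgroup (T al ga)) = 32 :=
  (card_eq_cnt_of_mask fun _ => mem_msub).trans (by cases al <;> cases ga <;> decide +kernel)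
theorem card_Q : Nat.card (Q : Subgroup (T al ga)) = 16 :=
  (card_eq_cnt_of_mask fun _ => mem_msub).trans (by cases al <;> cases ga <;> decide +kernel)

/-- The second elementary abelian subgroup `⟨z, a₀, b₀, s⟩` of order 16 of `T false true`. -/
def Q' : Subgroup (T false true) := (tabT false true).msub 0xf0f00000f0f (by decide)
  (by decide +kernel)

instance : DecidablePred (· ∈ Q') := fun _ => decidable_of_iff' _ mem_msub

/-- An involutory automorphism of `T false true` interchanging `Q` and `Q'`: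
`a₀, b₀, a₁, b₁, a₀a₁t, a₀b₀s`. -/
def κ : T false true →* T false true := MonoidHom.mk' (fun x => (tabT false true).el (lk
  0x7071727378797a7b757477767c7d7e7f6160636269686b6a646566676d6c6f6e353437363c3d3e3f3031323338393a3b242526272d2c2f2e2120232229282b2a58595a5b505152535d5c5f5e5455565749484b4a414043424c4d4e4f454447461e1f1c1d171615141b1a1918131211100e0f0c0d070605040b0a090803020100
  x.1)) (by decide +kernel)

theorem κ_κ : ∀ x, κ (κ x) = x := by decide +kernel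
theorem κ_z : κ z = z := by decide +kernel
theorem κ_mem_Q : ∀ x, κ x ∈ Q ↔ x ∈ Q' := by decide +kernel
theorem κ_mem_Q' : ∀ x, κ x ∈ Q' ↔ x ∈ Q := by decide +kernel
theorem κ_mem_DD : ∀ x, κ x ∈ DD ↔ x ∈ DD := by decide +kernel
end T

variable {G M : Type*} [Group G] [Group M]

theorem inj_of_z [Finite M] (hM : IsPGroup 2 M) {c : M}
    (hc : ∀ x : M, (∀ y, x * y = y * x) → x = 1 ∨ x = c) (φ : M →* G) (h : φ c ≠ 1) :
    Function.Injective φ := by
  refine φ.ker_eq_bot_iff.1 (by_contra fun hk => ?_)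
  obtain ⟨y, hy, h1, ho⟩ := Solv.PG.exists_mem_center_orderOf_eq hM φ.ker hk
  rcases hc y fun x => (mem_center_iff.1 h1 x).symm with rfl | rfl
  · rw [orderOf_one] at ho; omega
  · exact h hy

/-- The subgroup is the graph of a partial homomorphism. -/
def Gr (H : Subgroup (M × G)) : Prop := ∀ y, (1, y) ∈ H → y = 1

theorem Gr.adj {H : Subgroup (M × G)} (h : Gr H) {p : M × G} (h1 : ∀ q ∈ H, p * q * p⁻¹ ∈ H)
    (h2 : p * p ∈ H) (h3 : ∀ q ∈ H, q.1 ≠ p.1) : Gr (H ⊔ zpowers p) := fun y hy =>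
  ((GHB.mem_adj h1 h2).1 hy).elim (h y) fun e => absurd (by simp) (h3 _ (inv_mem e))

theorem Gr.hom {H : Subgroup (M × G)} (h : Gr H) (hs : ∀ m, ∃ g, (m, g) ∈ H) :
    ∃ φ : M →* G, ∀ p ∈ H, φ p.1 = p.2 := by
  choose f hf using hs
  have k : ∀ p ∈ H, f p.1 = p.2 := fun p hp => mul_inv_eq_one.1 (h _ (by
    have := mul_mem (hf p.1) (inv_mem hp)
    rwa [show (p.1, f p.1) * p⁻¹ = (1, f p.1 * p.2⁻¹) from Prod.ext (mul_inv_cancel _) rfl]
      at this))
  exact ⟨MonoidHom.mk' f fun a b => k (a * b, f a * f b) (mul_mem (hf a) (hf b)), k⟩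

theorem conj_sup {H : Subgroup G} {p q : G} {K : Subgroup G} (h1 : ∀ x ∈ H, p * x * p⁻¹ ∈ K)
    (h2 : p * q * p⁻¹ ∈ K) : ∀ x ∈ H ⊔ zpowers q, p * x * p⁻¹ ∈ K := fun _ hx =>
  (sup_le (show H ≤ K.comap (MulAut.conj p).toMonoidHom from h1) (zpowers_le.2 h2) :) hx

/-- `g` acts on the image of `D` as `w`. -/
def Ex (ψ : D →* G) (g : G) (w : W) : Prop := ∀ x, g * ψ x * g⁻¹ = ψ (act w x)

/-- `g` acts on the image of `D` as `w`, up to an inner automorphism. -/
def Ac (ψ : D →* G) (g : G) (w : W) : Prop := ∃ e : D, Ex ψ (ψ e * g) w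

theorem gen_D {H : Subgroup D} (h0 : z ∈ H) (h1 : a0 ∈ H) (h2 : a1 ∈ H) (h3 : b0 ∈ H)
    (h4 : b1 ∈ H) (x : D) : x ∈ H :=
  clos_sound H [1, 2, 4, 8, 16] (by
    simp only [List.forall_mem_cons, List.not_mem_nil, false_imp_iff, implies_true, and_true]
    exact ⟨⟨by decide, h0⟩, ⟨by decide, h1⟩, ⟨by decide, h2⟩, ⟨by decide, h3⟩, by decide, h4⟩) x
    (by revert x; decide +kernel)

theorem Ex.of_gen {ψ : D →* G} {g : G} {w : W} (h0 : g * ψ z * g⁻¹ = ψ z)
    (h1 : g * ψ a0 * g⁻¹ = ψ (act w a0)) (h2 : g * ψ a1 * g⁻¹ = ψ (act w a1))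
    (h3 : g * ψ b0 * g⁻¹ = ψ (act w b0)) (h4 : g * ψ b1 * g⁻¹ = ψ (act w b1)) : Ex ψ g w :=
  gen_D (H := ((MulAut.conj g).toMonoidHom.comp ψ).eqLocus (ψ.comp (actH w)))
    (h0.trans (congrArg ψ (act_z w).symm)) h1 h2 h3 h4

theorem Ex.gr {ψ : D →* G} {ι : D →* M} {g : G} {m : M} {w : W} (h : Ex ψ g w) (h' : Ex ι m w) :
    ∀ q ∈ (ι.prod ψ).range, (m, g) * q * (m, g)⁻¹ ∈ (ι.prod ψ).range := by
  rintro _ ⟨x, rfl⟩
  exact ⟨act w x, Prod.ext (h' x).symm (h x).symm⟩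

theorem gr_range {ψ : D →* G} {ι : D →* M} (h : Function.Injective ι) : Gr (ι.prod ψ).range := by
  rintro y ⟨x, hx⟩
  have e : ψ x = y := (Prod.ext_iff.1 hx).2
  rw [← e, h ((Prod.ext_iff.1 hx).1.trans (map_one ι).symm), map_one]

theorem exists_homE (k : Bool) {ψ : D →* G} (hψ : Function.Injective ψ) {g : G}
    (h : Ex ψ g (wE k)) (h2 : g * g = 1) : ∃ φ : E k →* G, Function.Injective φ ∧
      (∀ x, φ (E.ι x) = ψ x) ∧ φ E.t = g := by
  have e1 : Ex (E.ι (k := k)) E.t (wE k) := by unfold Ex; cases k <;> decide +kernel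
  have e2 : (E.t, g) * (E.t, g) ∈ ((E.ι (k := k)).prod ψ).range :=
    ⟨1, Prod.ext (by cases k <;> decide +kernel : E.ι 1 = (E.t * E.t : E k))
      ((map_one ψ).trans h2.symm)⟩
  obtain ⟨φ, hφ⟩ := ((gr_range (ψ := ψ) (ι := E.ι (k := k)) fun a b e =>
    El.ext (congrArg (El.val (t := tabE k)) e)).adj (h.gr e1) e2 (by
      rintro _ ⟨x, rfl⟩
      exact (by cases k <;> decide +kernel : ∀ x, E.ι (k := k) x ≠ E.t) x)).hom fun m => by
    obtain ⟨x, rfl | rfl⟩ := (by cases k <;> decide +kernel : ∀ m : E k, ∃ x, m = E.ι x ∨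
      m = E.ι x * E.t) m
    all_goals have k0 : (E.ι x, ψ x) ∈ ((E.ι (k := k)).prod ψ).range := ⟨x, rfl⟩
    exacts [⟨ψ x, mem_sup_left k0⟩, ⟨ψ x * g, mul_mem_sup k0 (mem_zpowers (E.t, g))⟩]
  have k1 : ∀ x, φ (E.ι x) = ψ x := fun x => hφ (E.ι x, ψ x) (mem_sup_left ⟨x, rfl⟩)
  exact ⟨φ, inj_of_z (two_E k) (c := E.ι z) (by cases k <;> decide +kernel) φ (by
    rw [k1, map_ne_one_iff _ hψ]; decide), k1, hφ (E.t, g) (mem_sup_right (mem_zpowers _))⟩

theorem exists_homT (al ga : Bool) {ψ : D →* G} (hψ : Function.Injective ψ) {s t : G}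
    (hs : Ex ψ s ws) (ht : Ex ψ t wt) (ss : s * s = ψ (zp al)) (tt : t * t = 1)
    (st : s * t * (s * t) = ψ (zp ga)) : ∃ φ : T al ga →* G, Function.Injective φ ∧
      (∀ x, φ (T.ι x) = ψ x) ∧ φ T.s = s ∧ φ T.t = t := by
  have e1 : Ex (T.ι (al := al) (ga := ga)) T.t wt := by
    unfold Ex; cases al <;> cases ga <;> decide +kernel
  have e1' : Ex (T.ι (al := al) (ga := ga)) T.s ws := by
    unfold Ex; cases al <;> cases ga <;> decide +kernel
  have e2 : (T.t, t) * (T.t, t) ∈ ((T.ι (al := al) (ga := ga)).prod ψ).range :=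
    ⟨1, Prod.ext (by cases al <;> cases ga <;> decide +kernel : T.ι 1 = (T.t * T.t : T al ga))
      ((map_one ψ).trans tt.symm)⟩
  have e3 : s * t * s⁻¹ = ψ (zp ga * (zp al)⁻¹) * t := by
    have a : t * ψ (zp al) = ψ (zp al) * t := by
      rw [← mul_inv_eq_iff_eq_mul, ht]; cases al <;> rfl
    have b : t⁻¹ = t := inv_eq_of_mul_eq_one_right tt
    calc _ = s * t * (s * t) * (t⁻¹ * (s * s)⁻¹) := by group
      _ = _ := by
        rw [st, ss, ← mul_inv_rev, ← a, mul_inv_rev, b, map_mul, map_inv, mul_assoc]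
  obtain ⟨φ, hφ⟩ := (((gr_range (ψ := ψ) (ι := T.ι (al := al) (ga := ga)) fun a b e =>
    El.ext (congrArg (El.val (t := tabT al ga)) e)).adj (ht.gr e1) e2 (by
      rintro _ ⟨x, rfl⟩
      exact (by cases al <;> cases ga <;> decide +kernel :
        ∀ x, T.ι (al := al) (ga := ga) x ≠ T.t) x)).adj (p := (T.s, s))
    (conj_sup (fun q hq => mem_sup_left (hs.gr e1' q hq)) (by
      rw [show (T.s, s) * (T.t, t) * (T.s, s)⁻¹ = (T.ι.prod ψ) (zp ga * (zp al)⁻¹) * (T.t, t) from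
        Prod.ext (by cases al <;> cases ga <;> decide +kernel :
          T.s * T.t * T.s⁻¹ = T.ι (zp ga * (zp al)⁻¹) * (T.t : T al ga)) e3]
      exact mul_mem_sup ⟨_, rfl⟩ (mem_zpowers _)))
    (mem_sup_left ⟨zp al, Prod.ext (by cases al <;> cases ga <;> decide +kernel :
      T.ι (zp al) = (T.s * T.s : T al ga)) ss.symm⟩) (fun q hq => by
      rcases (GHB.mem_adj (ht.gr e1) e2).1 hq with ⟨x, rfl⟩ | ⟨x, e⟩
      · exact (by cases al <;> cases ga <;> decide +kernel :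
          ∀ x, T.ι (al := al) (ga := ga) x ≠ T.s) x
      · intro e'
        exact (by cases al <;> cases ga <;> decide +kernel :
          ∀ x, T.ι (al := al) (ga := ga) x ≠ T.t⁻¹ * T.s) x
          ((Prod.ext_iff.1 e).1.trans (congrArg (T.t⁻¹ * ·) e')))).hom
    fun m => by
      obtain ⟨x, rfl | rfl | rfl | rfl⟩ := (by cases al <;> cases ga <;> decide +kernel :
        ∀ m : T al ga, ∃ x, m = T.ι x ∨ m = T.ι x * T.t ∨ m = T.ι x * T.s ∨
          m = T.ι x * T.t * T.s) m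
      all_goals have k0 : (T.ι x, ψ x) ∈ ((T.ι (al := al) (ga := ga)).prod ψ).range := ⟨x, rfl⟩
      exacts [⟨_, mem_sup_left (mem_sup_left k0)⟩,
        ⟨ψ x * t, mem_sup_left (mul_mem_sup k0 (mem_zpowers (T.t, t)))⟩,
        ⟨ψ x * s, mul_mem_sup (mem_sup_left k0) (mem_zpowers (T.s, s))⟩,
        ⟨ψ x * t * s, mul_mem_sup (mul_mem_sup k0 (mem_zpowers (T.t, t))) (mem_zpowers (T.s, s))⟩]
  have k1 : ∀ x, φ (T.ι x) = ψ x := fun x =>
    hφ (T.ι x, ψ x) (mem_sup_left (mem_sup_left ⟨x, rfl⟩))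
  exact ⟨φ, inj_of_z (two_T al ga) (c := T.ι z) T.cent φ (by
    rw [k1, map_ne_one_iff _ hψ]; decide), k1, hφ (T.s, s) (mem_sup_right (mem_zpowers _)),
    hφ (T.t, t) (mem_sup_left (mem_sup_right (mem_zpowers _)))⟩

/-- The relations of `D`. -/
structure Rel (c p q r s : G) : Prop where
  ne : c ≠ 1
  cc : c * c = 1
  pp : p * p = 1
  qq : q * q = 1
  rr : r * r = 1
  ss : s * s = 1
  pc : p * c = c * p
  qc : q * c = c * q
  rc : r * c = c * r
  sc : s * c = c * s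
  pq : p * q = q * p
  rs : r * s = s * r
  pr : p * r = r * p
  qs : q * s = s * q
  ps : s * p = c * p * s
  qr : r * q = c * q * r

theorem Rel.exists_hom {c p q r s : G} (h : Rel c p q r s) : ∃ ψ : D →* G, Function.Injective ψ ∧
    ψ z = c ∧ ψ a0 = p ∧ ψ a1 = q ∧ ψ b0 = r ∧ ψ b1 = s := by
  let H1 : Subgroup (D × G) := ⊥ ⊔ zpowers (z, c)
  let H2 : Subgroup (D × G) := H1 ⊔ zpowers (a0, p)
  let H3 : Subgroup (D × G) := H2 ⊔ zpowers (a1, q)
  let H4 : Subgroup (D × G) := H3 ⊔ zpowers (b0, r)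
  have r0 : ∀ {K : Subgroup (D × G)} {g : D × G}, ∀ x ∈ (⊥ : Subgroup (D × G)), g * x * g⁻¹ ∈ K :=
    fun x hx => by rw [mem_bot.1 hx, mul_one, mul_inv_cancel]; exact one_mem _
  have k : ∀ {K : Subgroup (D × G)} {x y u : D} {g a b : G}, x * y = u * x → g * a = b * g →
      (u, b) ∈ K → (x, g) * (y, a) * (x, g)⁻¹ ∈ K := fun {K x y u g a b} e1 e2 m => by
    rwa [show (x, g) * (y, a) * (x, g)⁻¹ = (u, b) from
      Prod.ext (mul_inv_eq_iff_eq_mul.2 e1) (mul_inv_eq_iff_eq_mul.2 e2)]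
  have sq : ∀ {K : Subgroup (D × G)} {x : D} {g : G}, x * x = 1 → g * g = 1 →
      (x, g) * (x, g) ∈ K := fun {K x g} e1 e2 => by
    rw [show (x, g) * (x, g) = 1 from Prod.ext e1 e2]; exact one_mem _
  have nm : ∀ {K : Subgroup (D × G)} {x : D} {g : G} (L : Subgroup D), K ≤ L.comap (.fst _ _) →
      x ∉ L → ∀ y ∈ K, y.1 ≠ (x, g).1 := fun {K x g} L h1 h2 y hy e =>
    h2 ((show y.1 = x from e) ▸ (show y.1 ∈ L from h1 hy))
  have zl : ∀ {x : D} {g : G} {L : Subgroup D}, x ∈ L → zpowers (x, g) ≤ L.comap (.fst _ _) :=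
    fun h => zpowers_le.2 h
  have m1 : (z, c) ∈ H1 := mem_sup_right (mem_zpowers _)
  have m2 : (a0, p) ∈ H2 := mem_sup_right (mem_zpowers _)
  have m3 : (a1, q) ∈ H3 := mem_sup_right (mem_zpowers _)
  have m4 : (b0, r) ∈ H4 := mem_sup_right (mem_zpowers _)
  have l1 : H1 ≤ H2 := le_sup_left
  have l2 : H2 ≤ H3 := le_sup_left
  have l3 : H3 ≤ H4 := le_sup_left
  have g0 : Gr (⊥ : Subgroup (D × G)) := fun y hy => (Prod.ext_iff.1 (mem_bot.1 hy)).2
  have g1 : Gr H1 := g0.adj r0 (sq (by decide) h.cc)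
    (fun y hy => by rw [mem_bot.1 hy]; exact (by decide : (1 : D) ≠ z))
  have g2 : Gr H2 := g1.adj (conj_sup r0 (k (by decide) h.pc m1)) (sq (by decide) h.pp)
    (nm (tabD.msub 0x3 (by decide) (by decide +kernel)) (sup_le bot_le (zl (mem_msub.2 (by decide))))
      (by decide : ¬ bit 0x3 2 = true))
  have g3 : Gr H3 := g2.adj (conj_sup (conj_sup r0 (k (by decide) h.qc (l1 m1)))
    (k (by decide) h.pq.symm m2)) (sq (by decide) h.qq)
    (nm (tabD.msub 0xf (by decide) (by decide +kernel))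
      (sup_le (sup_le bot_le (zl (mem_msub.2 (by decide)))) (zl (mem_msub.2 (by decide)))) (by decide : ¬ bit 0xf 4 = true))
  have g4 : Gr H4 := g3.adj (conj_sup (conj_sup (conj_sup r0 (k (by decide) h.rc (l2 (l1 m1))))
    (k (by decide) h.pr.symm (l2 m2))) (k (u := z * a1) (by decide) h.qr (mul_mem (l2 (l1 m1)) m3)))
    (sq (by decide) h.rr) (nm V0 (sup_le (sup_le (sup_le bot_le (zl (mem_msub.2 (by decide))))
      (zl (mem_msub.2 (by decide)))) (zl (mem_msub.2 (by decide)))) (by decide))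
  have g5 := g4.adj (p := (b1, s)) (conj_sup (conj_sup (conj_sup (conj_sup r0
    (k (by decide) h.sc (l3 (l2 (l1 m1))))) (k (u := z * a0) (by decide) h.ps
      (l3 (l2 (mul_mem (l1 m1) m2))))) (k (by decide) h.qs.symm (l3 m3)))
    (k (by decide) h.rs.symm m4)) (sq (by decide) h.ss)
    (nm (tabD.msub 0xffff (by decide) (by decide +kernel)) (sup_le (sup_le (sup_le
      (sup_le bot_le (zl (mem_msub.2 (by decide)))) (zl (mem_msub.2 (by decide)))) (zl (mem_msub.2 (by decide)))) (zl (mem_msub.2 (by decide))))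
      (by decide : ¬ bit 0xffff 16 = true))
  have m5 : (b1, s) ∈ H4 ⊔ zpowers (b1, s) := mem_sup_right (mem_zpowers _)
  have l4 : H4 ≤ H4 ⊔ zpowers (b1, s) := le_sup_left
  obtain ⟨ψ, hψ⟩ := g5.hom fun m => by
    obtain ⟨y, hy, rfl⟩ := gen_D (H := (H4 ⊔ zpowers (b1, s)).map (.fst _ _))
      ⟨_, l4 (l3 (l2 (l1 m1))), rfl⟩ ⟨_, l4 (l3 (l2 m2)), rfl⟩ ⟨_, l4 (l3 m3), rfl⟩ ⟨_, l4 m4, rfl⟩
      ⟨_, m5, rfl⟩ m
    exact ⟨y.2, hy⟩
  have e := hψ _ (l4 (l3 (l2 (l1 m1))))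
  exact ⟨ψ, inj_of_z two_D cent_D ψ (e ▸ h.ne), e, hψ _ (l4 (l3 (l2 m2))), hψ _ (l4 (l3 m3)),
    hψ _ (l4 m4), hψ _ m5⟩

/-! ### Automorphisms induced on the image of `D` -/

variable {ψ : D →* G} {g h : G} {w v : W}

theorem Ex.mul (h1 : Ex ψ g w) (h2 : Ex ψ h v) : Ex ψ (g * h) (w * v) := fun x => by
  rw [act_mul, ← h1, ← h2]; group

theorem Ex.inv (h1 : Ex ψ g w) : Ex ψ g⁻¹ w⁻¹ := fun x => by
  conv_lhs => rw [← act_act_inv w x, ← h1]
  group

theorem Ex.one : Ex ψ 1 1 := fun x => by rw [act_one]; group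

theorem Ex.ac (h1 : Ex ψ g w) : Ac ψ g w := ⟨1, by rwa [map_one, one_mul]⟩

theorem Ex.comm (h1 : Ex ψ g w) (x : D) : g * ψ x = ψ (act w x) * g :=
  mul_inv_eq_iff_eq_mul.1 (h1 x)

theorem Ex.of_comm (h : ∀ x, g * ψ x = ψ x * g) : Ex ψ g 1 := fun x => by
  rw [act_one, h, mul_inv_cancel_right]

theorem Ex.cent (h1 : Ex ψ g 1) (x : D) : g * ψ x = ψ x * g := by rw [h1.comm, act_one]

theorem Ex.mem_C1 (h1 : Ex ψ g w) : g ∈ C1 (ψ z) :=
  mem_centralizer_singleton_iff.2 (by rw [h1.comm, act_z])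

theorem Ac.conj (h1 : Ac ψ g w) : ∃ e : D, ∀ x, g * ψ x * g⁻¹ = ψ (e * act w x * e⁻¹) := by
  obtain ⟨e, he⟩ := h1
  refine ⟨e⁻¹, fun x => ?_⟩
  rw [map_mul, map_mul, ← he, map_inv, map_inv, map_inv]; group

theorem Ac.of_conj {e : D} (h1 : ∀ x, g * ψ x * g⁻¹ = ψ (e * act w x * e⁻¹)) : Ac ψ g w :=
  ⟨e⁻¹, fun x => by
    rw [mul_inv_rev, mul_assoc (ψ e⁻¹), mul_assoc (ψ e⁻¹), ← mul_assoc (g * ψ x), h1, ← map_inv,
      ← map_mul, ← map_mul]
    congr 1; group⟩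

theorem Ac.mul (h1 : Ac ψ g w) (h2 : Ac ψ h v) : Ac ψ (g * h) (w * v) := by
  obtain ⟨e, he⟩ := h1
  obtain ⟨f, hf⟩ := h2
  refine ⟨act w f * e, ?_⟩
  have := he.mul hf
  rwa [← mul_assoc, he.comm, ← mul_assoc, ← map_mul, mul_assoc] at this

theorem Ac.inv (h1 : Ac ψ g w) : Ac ψ g⁻¹ w⁻¹ := by
  obtain ⟨e, he⟩ := h1
  refine ⟨act w⁻¹ e⁻¹, ?_⟩
  rw [← he.inv, map_inv, show (ψ e * g)⁻¹ * (ψ e)⁻¹ * (ψ e * g)⁻¹⁻¹ * g⁻¹ = (ψ e * g)⁻¹ by group]
  exact he.inv

theorem Ac.of_mem (e : D) : Ac ψ (ψ e) 1 :=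
  ⟨e⁻¹, by rw [← map_mul, inv_mul_cancel, map_one]; exact .one⟩

theorem Ac.mem_C1 (h1 : Ac ψ g w) : g ∈ C1 (ψ z) := by
  obtain ⟨e, he⟩ := h1
  exact (mul_mem_cancel_left (mem_centralizer_singleton_iff.2 (by
    rw [← map_mul, z_comm, map_mul]))).1 he.mem_C1

theorem Ac.mem_Ns [Finite G] (h1 : Ac ψ g w) : g ∈ Ns ψ.range := by
  obtain ⟨e, he⟩ := h1.conj
  exact mem_normalizer_fintype (by rintro _ ⟨x, rfl⟩; exact ⟨_, (he x).symm⟩)

theorem Ac.uniq (hψ : Function.Injective ψ) (h1 : Ac ψ g w) (h2 : Ac ψ g v) : w = v := by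
  obtain ⟨e, he⟩ := (h1.mul h2.inv).conj
  refine mul_inv_eq_one.1 ((by decide +kernel : ∀ u : W, ∀ e : D,
    (∀ x, x = e * act u x * e⁻¹) → u = 1) _ e fun x => hψ ?_)
  rw [← he]; group

theorem aut_D : ∀ p : D, p * p = 1 → ∀ q : D, q * q = 1 → p * q = q * p → ∀ r : D, r * r = 1 →
    p * r = r * p → r * q = z * q * r → ∀ s : D, s * s = 1 → r * s = s * r → q * s = s * q →
    s * p = z * p * s → ∃ w : W, Nat.div (act w a0).1 2 = Nat.div p.1 2 ∧
      Nat.div (act w a1).1 2 = Nat.div q.1 2 ∧ Nat.div (act w b0).1 2 = Nat.div r.1 2 ∧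
      Nat.div (act w b1).1 2 = Nat.div s.1 2 ∧ ∃ e : D, e * p * e⁻¹ = act w a0 ∧
      e * q * e⁻¹ = act w a1 ∧ e * r * e⁻¹ = act w b0 ∧ e * s * e⁻¹ = act w b1 := by
  decide +kernel

theorem exists_ac (hψ : Function.Injective ψ) (h : ∀ x, ∃ y, g * ψ x * g⁻¹ = ψ y) :
    ∃ w, Ac ψ g w := by
  choose f hf using h
  have m : ∀ x y, f (x * y) = f x * f y := fun x y => hψ (by
    rw [map_mul, ← hf, ← hf, ← hf, map_mul]; group)
  have o : ∀ x, f x = 1 ↔ x = 1 := fun x => by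
    rw [← map_eq_one_iff ψ hψ, ← hf, conj_eq_one_iff, map_eq_one_iff ψ hψ]
  have fz : f z = z := by
    have e : f z = f b1 * f a0 * (f a0 * f b1)⁻¹ := by
      rw [eq_mul_inv_iff_mul_eq, ← m, ← m, ← m]; rfl
    rcases comm_D (f b1) (f a0) with c | c
    · rw [c, mul_inv_cancel] at e
      exact absurd ((o z).1 e) (by decide)
    · rwa [c, mul_inv_cancel_right] at e
  obtain ⟨w, -, -, -, -, e, e1, e2, e3, e4⟩ := aut_D (f a0) (by rw [← m]; exact (o _).2 rfl)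
    (f a1) (by rw [← m]; exact (o _).2 rfl) (by rw [← m, ← m]; rfl)
    (f b0) (by rw [← m]; exact (o _).2 rfl) (by rw [← m, ← m]; rfl) (by rw [← fz, ← m, ← m, ← m]; rfl)
    (f b1) (by rw [← m]; exact (o _).2 rfl) (by rw [← m, ← m]; rfl) (by rw [← m, ← m]; rfl)
    (by rw [← fz, ← m, ← m, ← m]; rfl)
  have k : ∀ x, ψ e * g * ψ x * (ψ e * g)⁻¹ = ψ (e * f x * e⁻¹) := fun x => by
    rw [map_mul, map_mul, map_inv, ← hf]; group
  exact ⟨w, e, .of_gen (by rw [k, fz, z_comm, mul_inv_cancel_right]) (by rw [k, e1]) (by rw [k, e2])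
    (by rw [k, e3]) (by rw [k, e4])⟩

theorem exists_ac' (hψ : Function.Injective ψ) (h : g ∈ Ns ψ.range) : ∃ w, Ac ψ g w :=
  exists_ac hψ fun x => ((mem_normalizer_iff.1 h _).1 ⟨x, rfl⟩).imp fun _ => Eq.symm

theorem Ex.comp (h1 : Ex ψ g w) (p : W) : Ex (ψ.comp (actH p)) g (p⁻¹ * w * p) := fun x => by
  simp only [MonoidHom.comp_apply, actH_apply, act_mul, act_act_inv]
  exact h1 _

theorem Ac.comp (h1 : Ac ψ g w) (p : W) : Ac (ψ.comp (actH p)) g (p⁻¹ * w * p) := by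
  obtain ⟨e, he⟩ := h1
  exact ⟨act p⁻¹ e, by simpa only [MonoidHom.comp_apply, actH_apply, act_act_inv] using he.comp p⟩

theorem actH_inj (p : W) : Function.Injective (actH p) := fun x y e => by
  rw [← act_inv_act p x, ← act_inv_act p y]; exact congrArg _ e

theorem range_comp (p : W) : (ψ.comp (actH p)).range = ψ.range :=
  le_antisymm (by rintro _ ⟨x, rfl⟩; exact ⟨_, rfl⟩) (by
    rintro _ ⟨x, rfl⟩; exact ⟨act p⁻¹ x, congrArg ψ (act_act_inv p x)⟩)

end Cfsg.Lib.GHD
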